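import Groth.Agent.Lib.SpHomog.ArtQuot
import Groth.Agent.Lib.GrpQ.FfMonoGrp
import Groth.Agent.Lib.GrpQ.Desc
import Groth.Agent.Lib.GrpQ.MonoClosed
import Groth.Agent.Lib.ActSep.GrpArt
import Groth.Agent.Lib.GrpQ.Transfer
import Groth.Agent.S3030

/-!
Kernels, images and quotients of commutative algebraic groups over a field.
-/

set_option autoImplicit false
set_option linter.style.haveILetI false

universe u

open CategoryTheory CategoryTheory.Limits MonoidalCategory CartesianMonoidalCategory MonObj GrpObj AlgebraicGeometry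
open Groth.Agent.Lib.GrpQ Groth.Agent.Lib.GrpQ.FfMono

namespace Groth.Agent.Lib.CommAlgGrp

section General

variable {S : Scheme.{u}} {K G H Q R : Over S}

theorem isCommMonObj_of_mono [GrpObj K] [GrpObj G] [IsCommMonObj G] (i : K ⟶ G) [IsMonHom i] [Mono i] :
    IsCommMonObj K where
  mul_comm := by
    rw [← cancel_mono i, Category.assoc, IsMonHom.mul_hom, ← Category.assoc, ← BraidedCategory.braiding_naturality,
      Category.assoc, IsCommMonObj.mul_comm]

theorem isMonHom_of_comp_mono [GrpObj K] [GrpObj G] [GrpObj R] (i : K ⟶ G) [IsMonHom i] [Mono i] (g : R ⟶ G)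
    [IsMonHom g] (l : R ⟶ K) (h : l ≫ i = g) : IsMonHom l where
  one_hom := by rw [← cancel_mono i, Category.assoc, h, IsMonHom.one_hom, IsMonHom.one_hom]
  mul_hom := by
    rw [← cancel_mono i, Category.assoc, h, IsMonHom.mul_hom, Category.assoc, IsMonHom.mul_hom, ← Category.assoc,
      tensorHom_comp_tensorHom, h]

variable (p : G ⟶ Q) [Flat p.left] [Surjective p.left] [LocallyOfFinitePresentation p.left]

theorem cancel_tensor {X : Over S} {a b : Q ⊗ Q ⟶ X} (h : (p ⊗ₘ p) ≫ a = (p ⊗ₘ p) ≫ b) : a = b := by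
  haveI : Flat (p ⊗ₘ p).left := GrpSch.tensorHom_left_of (P := @Flat) p p ‹_› ‹_›
  haveI : Surjective (p ⊗ₘ p).left := GrpSch.tensorHom_left_of (P := @Surjective) p p ‹_› ‹_›
  haveI : LocallyOfFinitePresentation (p ⊗ₘ p).left :=
    GrpSch.tensorHom_left_of (P := @LocallyOfFinitePresentation) p p ‹_› ‹_›
  exact cancel_over (p ⊗ₘ p) h

theorem isCommMonObj_of_cover [GrpObj G] [IsCommMonObj G] [GrpObj Q] [IsMonHom p] : IsCommMonObj Q where
  mul_comm := cancel_tensor p (by
    rw [← Category.assoc, BraidedCategory.braiding_naturality, Category.assoc, ← IsMonHom.mul_hom,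
      ← Category.assoc, IsCommMonObj.mul_comm])

/-- A homomorphism killing the kernel of an fppf epimorphism descends along it. -/
theorem exists_desc_of_kernel [GrpObj G] [GrpObj Q] [IsMonHom p] [GrpObj R] {i : K ⟶ G}
    (hK : AlgGrp.IsKernel i p) (g : G ⟶ R) [IsMonHom g] (hg : i ≫ g = 1) :
    ∃ h : Q ⟶ R, IsMonHom h ∧ p ≫ h = g := by
  obtain ⟨h, hh⟩ := exists_desc_over p g fun Z x y e => by
    obtain ⟨n, hn⟩ := (mem_kernel hK (x⁻¹ * y)).2 (by
      rw [MonObj.mul_comp, GrpObj.inv_comp, e, inv_mul_cancel])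
    have h1 : (x⁻¹ * y) ≫ g = 1 := by rw [← hn, Category.assoc, hg, MonObj.comp_one]
    rw [MonObj.mul_comp, GrpObj.inv_comp, inv_mul_eq_one] at h1
    exact h1
  refine ⟨h, ⟨?_, cancel_tensor p ?_⟩, hh⟩
  · rw [← IsMonHom.one_hom p, Category.assoc, hh, IsMonHom.one_hom]
  · rw [← Category.assoc, ← IsMonHom.mul_hom, Category.assoc, hh, ← Category.assoc, tensorHom_comp_tensorHom, hh,
      IsMonHom.mul_hom]

end General

variable {k : Type u} [Field k] {G H : Over (Spec (CommRingCat.of k))} [GrpObj G] [GrpObj H]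

theorem exists_kernel [IsCommMonObj G] [LocallyOfFiniteType G.hom] [QuasiCompact G.hom] [LocallyOfFiniteType H.hom]
    (f : G ⟶ H) [IsMonHom f] :
    ∃ (K : Over (Spec (CommRingCat.of k))) (_ : GrpObj K) (_ : IsCommMonObj K) (i : K ⟶ G), IsMonHom i ∧
      AlgGrp.IsKernel i f ∧ LocallyOfFiniteType K.hom ∧ QuasiCompact K.hom := by
  let i : pullback f η[H] ⟶ G := pullback.fst f η[H]
  have hK : AlgGrp.IsKernel i f := by
    have h := IsPullback.of_hasPullback f η[H]
    rwa [toUnit_unique (pullback.snd f η[H]) (toUnit _)] at h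
  haveI := kernel_mono hK
  have hi : ∀ {T : Over (Spec (CommRingCat.of k))} (n : T ⟶ pullback f η[H]), (n ≫ i) ≫ f = 1 := fun n => by
    rw [Category.assoc, kernel_comp hK, MonObj.comp_one]
  obtain ⟨gK, him⟩ := InfSub.exists_grpObj_of_mono i
    ((mem_kernel hK _).2 (by rw [IsMonHom.one_hom, Hom.one_def, toUnit_unique (toUnit _) (𝟙 _), Category.id_comp]))
    ((mem_kernel hK _).2 (by rw [MonObj.mul_comp, hi, hi, _root_.one_mul]))
    ((mem_kernel hK _).2 (by rw [GrpObj.inv_comp, kernel_comp hK, inv_one]))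
  haveI := him
  haveI : IsSeparated H.hom := ActSep.isSeparated_of_artinian (A := k) (G := H)
  haveI : IsClosedImmersion η[H].left := GrpSch.isClosedImmersion_η H
  haveI : IsClosedImmersion i.left :=
    MorphismProperty.of_isPullback (P := @IsClosedImmersion) (hK.map (Over.forget _)).flip ‹_›
  refine ⟨_, gK, isCommMonObj_of_mono i, i, him, hK, ?_, ?_⟩ <;> rw [← Over.w i] <;> infer_instance

theorem exists_image [LocallyOfFiniteType G.hom] [QuasiCompact G.hom] [LocallyOfFiniteType H.hom]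
    (f : G ⟶ H) [IsMonHom f] {K : Over (Spec (CommRingCat.of k))} {j : K ⟶ G} (hK : AlgGrp.IsKernel j f) :
    ∃ (C : Over (Spec (CommRingCat.of k))) (_ : GrpObj C) (p : G ⟶ C) (i : C ⟶ H), IsMonHom p ∧ IsMonHom i ∧
      p ≫ i = f ∧ Flat p.left ∧ Surjective p.left ∧ LocallyOfFinitePresentation p.left ∧
      IsClosedImmersion i.left ∧ AlgGrp.IsKernel j p := by
  haveI : LocallyOfFinitePresentation G.hom := LocallyOfFinitePresentation.iff_locallyOfFiniteType.2 ‹_›
  obtain ⟨C, gC, p, i, hp, hi, hpi, hs, hf, hl, hm, hC, -, hker⟩ :=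
    exists_quot_kernel f j hK (SpHomog.flat_to_field _) (Or.inl ‹_›)
  haveI := hm; haveI := hs; haveI := hi; haveI := hC
  haveI : QuasiCompact C.hom := by
    haveI : QuasiCompact (p.left ≫ C.hom) := by rw [Over.w]; infer_instance
    exact Transfer.quasiCompact_of_comp_surjective p.left C.hom
  haveI : IsSeparated H.hom := ActSep.isSeparated_of_artinian (A := k) (G := H)
  haveI : QuasiCompact i.left := by
    haveI : QuasiCompact (i.left ≫ H.hom) := by rw [Over.w]; infer_instance
    exact QuasiCompact.of_comp i.left H.hom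
  exact ⟨C, gC, p, i, hp, hi, hpi, hf, hs, hl, MonoClosed.isClosedImmersion_of_mono i, hker⟩

theorem exists_quotient [IsCommMonObj H] [LocallyOfFiniteType H.hom] [QuasiCompact H.hom]
    (i : G ⟶ H) [IsMonHom i] [IsClosedImmersion i.left] :
    ∃ (Q : Over (Spec (CommRingCat.of k))) (_ : GrpObj Q) (_ : IsCommMonObj Q) (q : H ⟶ Q), IsMonHom q ∧
      Flat q.left ∧ Surjective q.left ∧ LocallyOfFinitePresentation q.left ∧ AlgGrp.IsKernel i q ∧
      LocallyOfFiniteType Q.hom ∧ QuasiCompact Q.hom := by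
  haveI : LocallyOfFiniteType G.hom := by rw [← Over.w i]; infer_instance
  haveI : Mono i := Over.mono_of_mono_left i
  haveI : Flat G.hom := SpHomog.flat_to_field _
  haveI : Flat H.hom := SpHomog.flat_to_field _
  have hN : AlgGrp.IsNormalHom i := fun T g n => ⟨n, by rw [_root_.mul_comm g, mul_inv_cancel_right]⟩
  obtain ⟨Q, gQ, q, hq, h1, h2, h3, h4, -, -, -⟩ := Groth.Agent.S3030.result k G H i hN
  refine ⟨Q, gQ, isCommMonObj_of_cover q, q, hq, h1, h2, h3, h4, ?_, ?_⟩
  · exact H14.FppfDesc.Scheme.locallyOfFiniteType_of_comp q.left Q.hom (by rw [Over.w]; infer_instance)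
  · haveI : QuasiCompact (q.left ≫ Q.hom) := by rw [Over.w]; infer_instance
    exact Transfer.quasiCompact_of_comp_surjective q.left Q.hom

end Groth.Agent.Lib.CommAlgGrp
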