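import Groth.Agent.Lib.CommAlgGrp.Basic
import Mathlib.CategoryTheory.Monoidal.CommGrp_
import Mathlib.CategoryTheory.Abelian.Basic
import Mathlib.Algebra.Group.TransferInstance

/-!
The category of commutative algebraic groups over a field is abelian.
-/

set_option autoImplicit false
set_option linter.style.haveILetI false

universe u

open CategoryTheory CategoryTheory.Limits MonoidalCategory CartesianMonoidalCategory MonObj GrpObj AlgebraicGeometry
open Groth.Agent.Lib.GrpQ Groth.Agent.Lib.GrpQ.FfMono

namespace Groth.Agent.Lib.CommAlgGrp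

noncomputable section

variable (k : Type u) [Field k]

/-- Commutative algebraic groups over `k`. -/
abbrev Alg := ObjectProperty.FullSubcategory
  (fun G : CommGrp (Over (Spec (CommRingCat.of k))) => LocallyOfFiniteType G.X.hom ∧ QuasiCompact G.X.hom)

variable {k}

instance lft_hom (A : Alg k) : LocallyOfFiniteType A.obj.X.hom := A.property.1

instance qc_hom (A : Alg k) : QuasiCompact A.obj.X.hom := A.property.2

/-- Build an object. -/
abbrev mkAlg (X : Over (Spec (CommRingCat.of k))) [GrpObj X] [IsCommMonObj X]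
    (h1 : LocallyOfFiniteType X.hom) (h2 : QuasiCompact X.hom) : Alg k :=
  ⟨⟨X⟩, h1, h2⟩

/-- The underlying morphism of schemes over `k`. -/
abbrev val {A B : Alg k} (f : A ⟶ B) : A.obj.X ⟶ B.obj.X := f.hom.hom.hom.hom

instance isMonHom_val {A B : Alg k} (f : A ⟶ B) : IsMonHom (val f) := f.hom.hom.hom.isMonHom_hom

/-- Build a morphism. -/
abbrev mkHom {A B : Alg k} (f : A.obj.X ⟶ B.obj.X) [IsMonHom f] : A ⟶ B :=
  ObjectProperty.homMk (InducedCategory.homMk (Grp.homMk' ⟨f⟩))

theorem val_ext {A B : Alg k} {f g : A ⟶ B} (h : val f = val g) : f = g :=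
  ObjectProperty.hom_ext _ (CommGrp.hom_ext _ _ h)

theorem val_comp {A B C : Alg k} (f : A ⟶ B) (g : B ⟶ C) : val (f ≫ g) = val f ≫ val g := rfl

/-- Morphisms as morphisms of group objects. -/
def homEquiv (A B : Alg k) : (A ⟶ B) ≃ (A.obj.toGrp ⟶ B.obj.toGrp) where
  toFun f := f.hom.hom
  invFun f := ObjectProperty.homMk (InducedCategory.homMk f)

instance homAddCommGroup (A B : Alg k) : AddCommGroup (A ⟶ B) :=
  Equiv.addCommGroup ((homEquiv A B).trans Additive.ofMul)

theorem val_add {A B : Alg k} (f g : A ⟶ B) : val (f + g) = val f * val g := rfl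

theorem val_zero {A B : Alg k} : val (0 : A ⟶ B) = 1 := rfl

instance : Preadditive (Alg k) where
  homGroup := homAddCommGroup
  add_comp P Q R f f' g := val_ext (by
    rw [val_add, val_comp, val_comp, val_comp, val_add, MonObj.mul_comp])
  comp_add P Q R f g g' := val_ext (by
    rw [val_add, val_comp, val_comp, val_comp, val_add, MonObj.comp_mul])

theorem eq_zero_iff {A B : Alg k} (f : A ⟶ B) : f = 0 ↔ val f = 1 :=
  ⟨fun h => by rw [h, val_zero], fun h => val_ext (by rw [h, val_zero])⟩

theorem comp_val_eq_one {A B C : Alg k} {f : A ⟶ B} {g : B ⟶ C} (h : f ≫ g = 0) : val f ≫ val g = 1 := by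
  rw [← val_comp, h, val_zero]

instance : HasTerminal (Alg k) := by
  let T : Alg k := mkAlg (𝟙_ (Over (Spec (CommRingCat.of k))))
    (inferInstanceAs (LocallyOfFiniteType (𝟙 _))) (inferInstanceAs (QuasiCompact (𝟙 _)))
  refine (IsTerminal.ofUniqueHom (fun A => (0 : A ⟶ T)) fun A m => val_ext ?_).hasTerminal
  exact toUnit_unique _ _

/-- The product of two objects. -/
abbrev prodObj (A B : Alg k) : Alg k :=
  mkAlg (A.obj.X ⊗ B.obj.X)
    (by
      rw [← Over.w (fst A.obj.X B.obj.X)]
      haveI : LocallyOfFiniteType (fst A.obj.X B.obj.X).left :=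
        GrpSch.fst_left_of (P := @LocallyOfFiniteType) A.obj.X B.property.1
      infer_instance)
    (by
      rw [← Over.w (fst A.obj.X B.obj.X)]
      haveI : QuasiCompact (fst A.obj.X B.obj.X).left :=
        GrpSch.fst_left_of (P := @QuasiCompact) A.obj.X B.property.2
      infer_instance)

instance isMonHom_fst' (A B : Alg k) : IsMonHom (fst A.obj.X B.obj.X) := ⟨by simp, by simp⟩

instance isMonHom_snd' (A B : Alg k) : IsMonHom (snd A.obj.X B.obj.X) := ⟨by simp, by simp⟩

theorem isMonHom_lift {A B T : Alg k} (f : T ⟶ A) (g : T ⟶ B) : IsMonHom (lift (val f) (val g)) :=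
  ⟨by
    apply CartesianMonoidalCategory.hom_ext
    · rw [Category.assoc, lift_fst, IsMonHom.one_hom, IsMonHom.one_hom]
    · rw [Category.assoc, lift_snd, IsMonHom.one_hom, IsMonHom.one_hom],
  by
    apply CartesianMonoidalCategory.hom_ext
    · rw [Category.assoc, lift_fst, IsMonHom.mul_hom, Category.assoc, IsMonHom.mul_hom, ← Category.assoc,
        tensorHom_comp_tensorHom, lift_fst]
    · rw [Category.assoc, lift_snd, IsMonHom.mul_hom, Category.assoc, IsMonHom.mul_hom, ← Category.assoc,
        tensorHom_comp_tensorHom, lift_snd]⟩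

/-- The projections of the product. -/
def prodFan (A B : Alg k) : BinaryFan A B :=
  BinaryFan.mk (mkHom (A := prodObj A B) (B := A) (fst A.obj.X B.obj.X))
    (mkHom (A := prodObj A B) (B := B) (snd A.obj.X B.obj.X))

/-- The product is a product. -/
def isLimitProdFan (A B : Alg k) : IsLimit (prodFan A B) :=
  BinaryFan.IsLimit.mk _
    (fun {T} f g => haveI := isMonHom_lift f g; mkHom (A := T) (B := prodObj A B) (lift (val f) (val g)))
    (fun f g => val_ext (lift_fst _ _)) (fun f g => val_ext (lift_snd _ _))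
    (fun f g m h1 h2 => val_ext (by
      apply CartesianMonoidalCategory.hom_ext
      · exact (congrArg val h1).trans (lift_fst _ _).symm
      · exact (congrArg val h2).trans (lift_snd _ _).symm))

instance : HasBinaryProducts (Alg k) := by
  refine @hasBinaryProducts_of_hasLimit_pair _ _ fun {A B} => ?_
  exact HasLimit.mk ⟨_, isLimitProdFan A B⟩

instance : HasFiniteProducts (Alg k) := hasFiniteProducts_of_has_binary_and_terminal

/-- A kernel diagram gives a limit fork. -/
def isLimitKernel {A B K : Alg k} (i : K ⟶ A) (f : A ⟶ B) (hK : AlgGrp.IsKernel (val i) (val f))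
    (w : i ≫ f = 0) : IsLimit (KernelFork.ofι i w) :=
  haveI := kernel_mono hK
  KernelFork.IsLimit.ofι _ _ (fun g h =>
      haveI := isMonHom_of_comp_mono (val i) (val g) _ ((mem_kernel hK (val g)).2 (comp_val_eq_one h)).choose_spec
      mkHom ((mem_kernel hK (val g)).2 (comp_val_eq_one h)).choose)
    (fun g h => val_ext ((mem_kernel hK (val g)).2 (comp_val_eq_one h)).choose_spec)
    (fun g h m hm => val_ext ((cancel_mono (val i)).1 ((congrArg val hm).trans
      ((mem_kernel hK (val g)).2 (comp_val_eq_one h)).choose_spec.symm)))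

/-- An fppf epimorphism is the cokernel of any morphism mapping onto its kernel by an epimorphism. -/
def isColimitCokernel {A B Q : Alg k} (f : A ⟶ B) (q : B ⟶ Q) [Flat (val q).left] [Surjective (val q).left]
    [LocallyOfFinitePresentation (val q).left] {C : Over (Spec (CommRingCat.of k))} {i : C ⟶ B.obj.X}
    (hK : AlgGrp.IsKernel i (val q)) (hi : ∀ {R : Alg k} (g : B ⟶ R), f ≫ g = 0 → i ≫ val g = 1)
    (w : f ≫ q = 0) : IsColimit (CokernelCofork.ofπ q w) :=
  CokernelCofork.IsColimit.ofπ _ _ (fun g h =>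
      haveI := (exists_desc_of_kernel (val q) hK (val g) (hi g h)).choose_spec.1
      mkHom (exists_desc_of_kernel (val q) hK (val g) (hi g h)).choose)
    (fun g h => val_ext (exists_desc_of_kernel (val q) hK (val g) (hi g h)).choose_spec.2)
    (fun g h m hm => val_ext (cancel_over (val q) ((congrArg val hm).trans
      (exists_desc_of_kernel (val q) hK (val g) (hi g h)).choose_spec.2.symm)))

theorem exists_kernelFork {A B : Alg k} (f : A ⟶ B) :
    ∃ (K : Alg k) (i : K ⟶ A), AlgGrp.IsKernel (val i) (val f) ∧ i ≫ f = 0 := by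
  obtain ⟨K, gK, cK, i, hi, hK, h1, h2⟩ := exists_kernel (val f)
  refine ⟨mkAlg K h1 h2, mkHom (A := mkAlg K h1 h2) (B := A) i, hK, val_ext ?_⟩
  rw [val_comp, val_zero]
  exact kernel_comp hK

instance : HasKernels (Alg k) where
  has_limit f := by
    obtain ⟨K, i, hK, w⟩ := exists_kernelFork f
    exact HasLimit.mk ⟨_, isLimitKernel i f hK w⟩

theorem exists_cokernelCofork {A B : Alg k} (f : A ⟶ B) :
    ∃ (C : Over (Spec (CommRingCat.of k))) (_ : GrpObj C) (p : A.obj.X ⟶ C) (i : C ⟶ B.obj.X) (Q : Alg k)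
      (q : B ⟶ Q), IsMonHom p ∧ p ≫ i = val f ∧ Flat p.left ∧ Surjective p.left ∧
      LocallyOfFinitePresentation p.left ∧
      Flat (val q).left ∧ Surjective (val q).left ∧ LocallyOfFinitePresentation (val q).left ∧
      AlgGrp.IsKernel i (val q) ∧ f ≫ q = 0 ∧ ∀ {R : Alg k} (g : B ⟶ R), f ≫ g = 0 → i ≫ val g = 1 := by
  obtain ⟨K, gK, cK, j, hj, hK, -, -⟩ := exists_kernel (val f)
  obtain ⟨C, gC, p, i, hp, hi, hpi, h1, h2, h3, h4, -⟩ := exists_image (val f) hK
  haveI := hi; haveI := h4
  obtain ⟨Q, gQ, cQ, q, hq, h5, h6, h7, h8, h9, h10⟩ := exists_quotient i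
  refine ⟨C, gC, p, i, mkAlg Q h9 h10, mkHom (A := B) (B := mkAlg Q h9 h10) q, hp, hpi, h1, h2, h3, h5, h6, h7, h8,
    val_ext ?_, fun g hg => ?_⟩
  · rw [val_comp, ← hpi, val_zero, Category.assoc]
    show p ≫ i ≫ q = 1
    rw [kernel_comp h8, MonObj.comp_one]
  · apply cancel_over p
    rw [← Category.assoc, hpi, comp_val_eq_one hg, MonObj.comp_one]

instance : HasCokernels (Alg k) where
  has_colimit f := by
    obtain ⟨C, gC, p, i, Q, q, -, -, -, -, -, h5, h6, h7, h8, w, hi⟩ := exists_cokernelCofork f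
    exact HasColimit.mk ⟨_, isColimitCokernel f q h8 hi w⟩

theorem mono_val {A B : Alg k} (f : A ⟶ B) [Mono f] : Mono (val f) := by
  obtain ⟨K, i, hK, w⟩ := exists_kernelFork f
  have hi : val i = 1 := (eq_zero_iff i).1 (zero_of_comp_mono f w)
  refine ⟨fun {T} x y e => ?_⟩
  obtain ⟨n, hn⟩ := (mem_kernel hK (x⁻¹ * y)).2 (by rw [MonObj.mul_comp, GrpObj.inv_comp, e, inv_mul_cancel])
  rw [hi, MonObj.comp_one] at hn
  exact inv_mul_eq_one.1 hn.symm

instance : IsNormalMonoCategory (Alg k) where
  normalMonoOfMono {A B} f _ := by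
    haveI := mono_val f
    haveI : IsSeparated B.obj.X.hom := ActSep.isSeparated_of_artinian (A := k) (G := B.obj.X)
    haveI : QuasiCompact (val f).left := by
      haveI : QuasiCompact ((val f).left ≫ B.obj.X.hom) := by rw [Over.w]; infer_instance
      exact QuasiCompact.of_comp (val f).left B.obj.X.hom
    haveI : IsClosedImmersion (val f).left := MonoClosed.isClosedImmersion_of_mono (val f)
    obtain ⟨Q, gQ, cQ, q, hq, -, -, -, hK, h1, h2⟩ := exists_quotient (val f)
    have w : f ≫ mkHom (A := B) (B := mkAlg Q h1 h2) q = 0 := val_ext (by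
      rw [val_comp, val_zero]; exact kernel_comp hK)
    exact ⟨{ Z := mkAlg Q h1 h2, g := mkHom (A := B) (B := mkAlg Q h1 h2) q, w := w,
             isLimit := isLimitKernel f _ hK w }⟩

instance : IsNormalEpiCategory (Alg k) where
  normalEpiOfEpi {A B} f _ := by
    obtain ⟨C, gC, p, i, Q, q, hp, hpi, h1, h2, h3, -, -, -, h8, w, -⟩ := exists_cokernelCofork f
    haveI := h1; haveI := h2; haveI := h3
    have hq : val q = 1 := (eq_zero_iff q).1 (zero_of_epi_comp f w)
    haveI := kernel_mono h8
    obtain ⟨r, hr⟩ := (mem_kernel h8 (𝟙 B.obj.X)).2 (by rw [Category.id_comp, hq])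
    haveI : IsIso i := ⟨r, by rw [← cancel_mono i, Category.assoc, hr, Category.comp_id, Category.id_comp], hr⟩
    haveI : IsIso i.left := ((Over.forget _).mapIso (asIso i)).isIso_hom
    haveI : Flat (val f).left := by rw [← hpi, Over.comp_left]; infer_instance
    haveI : Surjective (val f).left := by rw [← hpi, Over.comp_left]; infer_instance
    haveI : LocallyOfFinitePresentation (val f).left := by rw [← hpi, Over.comp_left]; infer_instance
    obtain ⟨K, j, hK, wj⟩ := exists_kernelFork f
    exact ⟨{ W := K, g := j, w := wj,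
             isColimit := isColimitCokernel j f hK (fun g hg => comp_val_eq_one hg) wj }⟩

/-- The abelian structure. -/
@[instance_reducible]
def abelian : Abelian (Alg k) where

end

end Groth.Agent.Lib.CommAlgGrp
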