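import Groth.Agent.Lib.CommAlgGrp.Abelian
import Groth.Agent.S3278
import Mathlib.CategoryTheory.Abelian.Subcategory
import Mathlib.CategoryTheory.Abelian.Transfer
import Mathlib.CategoryTheory.Preadditive.Transfer

/-!
The category of commutative affine algebraic groups over a field is abelian.
-/

set_option autoImplicit false
set_option linter.style.haveILetI false

universe u

open CategoryTheory CategoryTheory.Limits MonoidalCategory CartesianMonoidalCategory MonObj GrpObj AlgebraicGeometry
open Groth.Agent.Lib.GrpQ Groth.Agent.Lib.GrpQ.FfMono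

namespace Groth.Agent.Lib.CommAlgGrp

noncomputable section

variable (k : Type u) [Field k]

/-- Affine objects. -/
abbrev affineProp : ObjectProperty (Alg k) := fun A => IsAffine A.obj.X.left

variable {k}

theorem isAffine_of_iso {A B : Alg k} (e : A ≅ B) (h : IsAffine A.obj.X.left) : IsAffine B.obj.X.left :=
  haveI := h
  haveI : IsIso (val e.inv).left :=
    ⟨(val e.hom).left, by rw [← Over.comp_left, ← val_comp, e.inv_hom_id]; rfl,
      by rw [← Over.comp_left, ← val_comp, e.hom_inv_id]; rfl⟩
  IsAffine.of_isIso (val e.inv).left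

instance : (affineProp k).IsClosedUnderIsomorphisms := ⟨fun e h => isAffine_of_iso e h⟩

theorem isAffine_kernel {A B K : Alg k} {i : K ⟶ A} {f : A ⟶ B} [IsAffine A.obj.X.left]
    (hK : AlgGrp.IsKernel (val i) (val f)) : IsAffine K.obj.X.left := by
  haveI : IsSeparated B.obj.X.hom := ActSep.isSeparated_of_artinian (A := k) (G := B.obj.X)
  haveI : IsClosedImmersion η[B.obj.X].left := GrpSch.isClosedImmersion_η B.obj.X
  haveI : IsClosedImmersion (val i).left :=
    MorphismProperty.of_isPullback (P := @IsClosedImmersion) (hK.map (Over.forget _)).flip ‹_›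
  exact isAffine_of_isAffineHom (val i).left

instance : (affineProp k).IsClosedUnderKernels where
  kernels_le := by
    rintro _ ⟨f, c, hc, ⟨h1, -⟩⟩
    obtain ⟨K, i, hK, w⟩ := exists_kernelFork f
    refine isAffine_of_iso ((isLimitKernel i f hK w).conePointUniqueUpToIso hc) ?_
    haveI := h1
    exact isAffine_kernel hK

theorem isAffine_cokernel {A B : Alg k} (f : A ⟶ B) (hB : IsAffine B.obj.X.left) {c : CokernelCofork f}
    (hc : IsColimit c) : IsAffine c.pt.obj.X.left := by
  obtain ⟨K, gK, cK, j, hj, hK, -, -⟩ := exists_kernel (val f)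
  obtain ⟨C, gC, p, i, hp, hi, hpi, h1, h2, h3, h4, -⟩ := exists_image (val f) hK
  haveI := hi; haveI := h4; haveI := hp; haveI := hB
  have hN : AlgGrp.IsNormalHom i := fun T g n => ⟨n, by rw [_root_.mul_comm g, mul_inv_cancel_right]⟩
  obtain ⟨Q, gQ, q, hq, hQ, h5, h6, h7, h8⟩ := Groth.Agent.S3278.result k B.obj.X C i hN
  haveI := hq
  haveI : LocallyOfFinitePresentation q.left := by
    haveI : LocallyOfFiniteType (q.left ≫ Q.hom) := by rw [Over.w]; infer_instance
    haveI : LocallyOfFiniteType q.left := locallyOfFiniteType_of_comp q.left Q.hom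
    haveI : IsLocallyNoetherian Q.left := LocallyOfFiniteType.isLocallyNoetherian Q.hom
    exact LocallyOfFinitePresentation.iff_locallyOfFiniteType.2 inferInstance
  haveI := isCommMonObj_of_cover q
  haveI : QuasiCompact Q.hom := by
    haveI := hQ
    infer_instance
  let Q' : Alg k := mkAlg Q h5 inferInstance
  have w : f ≫ mkHom (A := B) (B := Q') q = 0 := val_ext (by
    rw [val_comp, ← hpi, val_zero, Category.assoc]
    show p ≫ i ≫ q = 1
    rw [kernel_comp h8, MonObj.comp_one])
  haveI : Flat (val (mkHom (A := B) (B := Q') q)).left := h6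
  haveI : Surjective (val (mkHom (A := B) (B := Q') q)).left := h7
  haveI : LocallyOfFinitePresentation (val (mkHom (A := B) (B := Q') q)).left := ‹LocallyOfFinitePresentation q.left›
  have hcol := isColimitCokernel f (mkHom (A := B) (B := Q') q) h8 (fun g hg => by
    apply cancel_over p
    rw [← Category.assoc, hpi, comp_val_eq_one hg, MonObj.comp_one]) w
  exact isAffine_of_iso (hcol.coconePointUniqueUpToIso hc) hQ

instance : (affineProp k).IsClosedUnderCokernels where
  cokernels_le := by
    rintro _ ⟨f, c, hc, ⟨-, h2⟩⟩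
    exact isAffine_cokernel f h2 hc

instance : (affineProp k).ContainsZero where
  exists_zero := by
    refine ⟨mkAlg (𝟙_ (Over (Spec (CommRingCat.of k))))
      (inferInstanceAs (LocallyOfFiniteType (𝟙 _))) (inferInstanceAs (QuasiCompact (𝟙 _))),
      (IsZero.iff_id_eq_zero _).2 (val_ext (toUnit_unique _ _)), ?_⟩
    exact inferInstanceAs (IsAffine (Spec (CommRingCat.of k)))

instance : (affineProp k).IsClosedUnderBinaryProducts where
  limitsOfShape_le := by
    rintro X ⟨p⟩
    let c : BinaryFan (p.diag.obj ⟨.left⟩) (p.diag.obj ⟨.right⟩) := prodFan _ _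
    have hA := p.prop_diag_obj ⟨.left⟩
    have hB := p.prop_diag_obj ⟨.right⟩
    refine isAffine_of_iso ((isLimitProdFan _ _).conePointsIsoOfNatIso p.isLimit (diagramIsoPair p.diag).symm) ?_
    haveI := hA
    haveI := hB
    haveI : IsAffineHom (p.diag.obj ⟨.right⟩).obj.X.hom := inferInstance
    have h := GrpSch.fst_left_of (P := @IsAffineHom) (p.diag.obj ⟨.left⟩).obj.X
      (Y := (p.diag.obj ⟨.right⟩).obj.X) ‹_›
    exact @isAffine_of_isAffineHom _ _ _ h hA

instance : (affineProp k).IsClosedUnderFiniteProducts := ObjectProperty.IsClosedUnderFiniteProducts.mk'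

variable (k)

/-- Commutative affine algebraic groups over `k`. -/
abbrev AffAlg := ObjectProperty.FullSubcategory
  (fun G : CommGrp (Over (Spec (CommRingCat.of k))) =>
    LocallyOfFiniteType G.X.hom ∧ QuasiCompact G.X.hom ∧ IsAffine G.X.left)

/-- The comparison functor. -/
def toAffineObjects : AffAlg k ⥤ (affineProp k).FullSubcategory where
  obj A := ⟨⟨A.obj, A.property.1, A.property.2.1⟩, A.property.2.2⟩
  map f := ObjectProperty.homMk (ObjectProperty.homMk f.hom)

/-- The comparison functor is fully faithful. -/
def toAffineObjectsFF : (toAffineObjects k).FullyFaithful where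
  preimage f := ObjectProperty.homMk f.hom.hom

instance : (toAffineObjects k).IsEquivalence :=
  haveI : (toAffineObjects k).Full := (toAffineObjectsFF k).full
  haveI : (toAffineObjects k).Faithful := (toAffineObjectsFF k).faithful
  haveI : (toAffineObjects k).EssSurj :=
    ⟨fun A => ⟨⟨A.obj.obj, A.obj.property.1, A.obj.property.2, A.property⟩, ⟨Iso.refl _⟩⟩⟩
  { }

/-- The abelian structure. -/
@[instance_reducible]
def abelianAffine : Abelian (AffAlg k) :=
  letI : Abelian (Alg k) := abelian
  letI : Preadditive (AffAlg k) := Preadditive.ofFullyFaithful (toAffineObjectsFF k)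
  haveI : HasFiniteProducts (AffAlg k) :=
    ⟨fun _ => Adjunction.hasLimitsOfShape_of_equivalence (toAffineObjects k)⟩
  abelianOfEquivalence (toAffineObjects k)

end

end Groth.Agent.Lib.CommAlgGrp
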